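import Mathlib
import Cfsg.Agent.Lib.Helper3.Fus.Code

set_option autoImplicit false

/-! A finite 2-group with number codes for its elements (codes of permutations of the 24 points,
multiplied by `compN`): translation of statements about the quotient by the centre into
statements about codes. -/

namespace Cfsg.Agent.Lib.Helper3.Syl24

open Cfsg.Agent.Lib.Helper3.Golay Cfsg.Agent.Lib.Helper3.Fus

/-- the two codes commute up to the central code `z` -/
def commZ (z a b : ℕ) : Bool :=
  strictN (compN a b) fun ab => strictN (compN b a) fun ba =>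
    Nat.beq ab ba || Nat.beq ab (compN z ba)

theorem commZ_iff {z a b : ℕ} : commZ z a b = true ↔
    compN a b = compN b a ∨ compN a b = compN z (compN b a) := by
  unfold commZ
  rw [strictN_eq, strictN_eq, Bool.or_eq_true]
  constructor
  · rintro (h | h)
    · exact Or.inl (Nat.eq_of_beq_eq_true h)
    · exact Or.inr (Nat.eq_of_beq_eq_true h)
  · rintro (h | h)
    · left; rw [h]; exact Nat.beq_refl _
    · right; rw [h]; exact Nat.beq_refl _

/-- the square of the code is trivial or `z` -/
def sqZ (z a : ℕ) : Bool :=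
  strictN (compN a a) fun aa => Nat.beq aa idN || Nat.beq aa z

theorem sqZ_iff {z a : ℕ} : sqZ z a = true ↔ compN a a = idN ∨ compN a a = z := by
  unfold sqZ
  rw [strictN_eq, Bool.or_eq_true]
  constructor
  · rintro (h | h)
    · exact Or.inl (Nat.eq_of_beq_eq_true h)
    · exact Or.inr (Nat.eq_of_beq_eq_true h)
  · rintro (h | h)
    · left; rw [h]; exact Nat.beq_refl _
    · right; rw [h]; exact Nat.beq_refl _

/-- a group whose elements carry codes from the list `L`; `z` is the code of the only candidate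
for a nontrivial central element -/
structure Coded (G : Type*) [Group G] (L : List ℕ) (z : ℕ) where
  /-- the code -/
  c : G → ℕ
  c_one : c 1 = idN
  c_mul : ∀ g h, c (g * h) = compN (c g) (c h)
  c_inj : Function.Injective c
  c_mem : ∀ g, c g ∈ L
  c_surj : ∀ n ∈ L, ∃ g, c g = n
  c_center : ∀ g, (∀ h, g * h = h * g) → c g = idN ∨ c g = z

namespace Coded

variable {G : Type*} [Group G] {L : List ℕ} {z : ℕ} (C : Coded G L z)

include C in
theorem finite : Finite G :=
  Finite.of_injective (fun g => (⟨C.c g, C.c_mem g⟩ : {n // n ∈ L})) (fun _ _ hgh =>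
    C.c_inj (congrArg Subtype.val hgh))

theorem eq_one_of_code {g : G} (h : C.c g = idN) : g = 1 :=
  C.c_inj (h.trans C.c_one.symm)

/-- bound the size of a set by a list containing its codes -/
theorem card_le (S : Set G) (K : List ℕ) (h : ∀ g ∈ S, C.c g ∈ K) : Nat.card S ≤ K.length := by
  have hinj : Function.Injective (fun g : S => (⟨C.c g.1, h g.1 g.2⟩ : {n // n ∈ K})) := by
    intro g g' hgg
    exact Subtype.ext (C.c_inj (congrArg Subtype.val hgg))
  have h1 := Nat.card_le_card_of_injective _ hinj
  refine h1.trans ?_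
  rw [Nat.card_eq_fintype_card, Fintype.card_of_subtype K.toFinset (by simp)]
  exact List.toFinset_card_le K

/-- the size of a set whose codes are exactly a duplicate-free list -/
theorem card_eq (S : Set G) (K : List ℕ) (hK : K.Nodup) (h1 : ∀ g ∈ S, C.c g ∈ K)
    (h2 : ∀ n ∈ K, ∃ g ∈ S, C.c g = n) : Nat.card S = K.length := by
  have e : S ≃ {n // n ∈ K} :=
    Equiv.ofBijective (fun g => ⟨C.c g.1, h1 g.1 g.2⟩) ⟨by
      intro g g' hgg
      exact Subtype.ext (C.c_inj (congrArg Subtype.val hgg)), by
      rintro ⟨n, hn⟩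
      obtain ⟨g, hg, rfl⟩ := h2 n hn
      exact ⟨⟨g, hg⟩, rfl⟩⟩
  rw [Nat.card_congr e, Nat.card_eq_fintype_card, Fintype.card_of_subtype K.toFinset (by simp),
    List.toFinset_card_of_nodup hK]

include C in
theorem card_univ (hL : L.Nodup) : Nat.card G = L.length := by
  have := C.card_eq Set.univ L hL (fun g _ => C.c_mem g) (fun n hn => by
    obtain ⟨g, hg⟩ := C.c_surj n hn
    exact ⟨g, Set.mem_univ _, hg⟩)
  rwa [Nat.card_congr (Equiv.Set.univ G)] at this

/-- all products of codes of elements are codes of elements -/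
theorem exists_of_mem_prods : ∀ vs : List ℕ, (∀ v ∈ vs, ∃ g : G, C.c g = v) →
    ∀ n ∈ prods vs, ∃ g : G, C.c g = n
  | [], _, n, hn => by
    simp only [prods, List.mem_singleton] at hn
    exact ⟨1, by rw [hn, C.c_one]⟩
  | u :: us, h, n, hn => by
    simp only [prods, List.mem_append, List.mem_map] at hn
    have ih := exists_of_mem_prods us (fun v hv => h v (List.mem_cons_of_mem _ hv))
    rcases hn with hn | ⟨m, hm, rfl⟩
    · exact ih n hn
    · obtain ⟨τ, rfl⟩ := ih m hm
      obtain ⟨σ, rfl⟩ := h u List.mem_cons_self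
      exact ⟨σ * τ, C.c_mul σ τ⟩

/-- split an element with code among the products of `us ++ vs` -/
theorem decomp : ∀ (us vs : List ℕ), (∀ v ∈ us ++ vs, ∃ g : G, C.c g = v) →
    ∀ g : G, C.c g ∈ prods (us ++ vs) → ∃ w e : G, C.c w ∈ prods us ∧ C.c e ∈ prods vs ∧ g = w * e
  | [], vs, _, g, hg => ⟨1, g, by simp [prods, C.c_one], by simpa using hg, by simp⟩
  | u :: us, vs, h, g, hg => by
    have h' : ∀ v ∈ us ++ vs, ∃ g : G, C.c g = v := fun v hv => h v (by
      rw [List.cons_append]; exact List.mem_cons_of_mem _ hv)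
    have ih := decomp us vs h'
    rw [List.cons_append] at hg
    simp only [prods, List.mem_append, List.mem_map] at hg
    rcases hg with hg | ⟨m, hm, hmg⟩
    · obtain ⟨w, e, hw, he, rfl⟩ := ih g hg
      refine ⟨w, e, ?_, he, rfl⟩
      simp only [prods, List.mem_append]
      exact Or.inl hw
    · obtain ⟨g', rfl⟩ := C.exists_of_mem_prods (us ++ vs) h' m hm
      obtain ⟨hu, rfl⟩ := h u (by simp)
      obtain ⟨w, e, hw, he, rfl⟩ := ih g' hm
      refine ⟨hu * w, e, ?_, he, ?_⟩
      · simp only [prods, List.mem_append, List.mem_map]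
        exact Or.inr ⟨C.c w, hw, (C.c_mul hu w).symm⟩
      · apply C.c_inj
        rw [← hmg, ← C.c_mul, mul_assoc]

/-- the subgroup of the elements with codes in a list closed under the product -/
def subOf (T : List ℕ) (h1 : idN ∈ T) (hmul : ∀ a ∈ T, ∀ b ∈ T, compN a b ∈ T) : Subgroup G where
  carrier := {g | C.c g ∈ T}
  one_mem' := by
    show C.c 1 ∈ T
    rw [C.c_one]; exact h1
  mul_mem' := by
    intro a b ha hb
    show C.c (a * b) ∈ T
    rw [C.c_mul]; exact hmul _ ha _ hb
  inv_mem' := by
    intro a ha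
    have : Finite G := C.finite
    have hpow : ∀ k : ℕ, C.c (a ^ k) ∈ T := by
      intro k
      induction k with
      | zero => rw [pow_zero, C.c_one]; exact h1
      | succ k ih => rw [pow_succ, C.c_mul]; exact hmul _ ih _ ha
    have hinv : a⁻¹ = a ^ (orderOf a - 1) := by
      rw [inv_eq_iff_mul_eq_one, ← pow_succ']
      have : orderOf a - 1 + 1 = orderOf a := Nat.sub_add_cancel (orderOf_pos a)
      rw [this, pow_orderOf_eq_one]
    show C.c a⁻¹ ∈ T
    rw [hinv]; exact hpow _

theorem mem_subOf {T : List ℕ} {h1 : idN ∈ T} {hmul : ∀ a ∈ T, ∀ b ∈ T, compN a b ∈ T} {g : G} :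
    g ∈ C.subOf T h1 hmul ↔ C.c g ∈ T := Iff.rfl

end Coded

end Cfsg.Agent.Lib.Helper3.Syl24
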