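import Mathlib
import Cfsg.Agent.Lib.Helper3.Syl24.Basic

set_option autoImplicit false

/-! Normality of a listed subgroup of a coded group from checks on generators. -/

namespace Cfsg.Agent.Lib.Helper3.Syl24

open Cfsg.Agent.Lib.Helper3.Golay Cfsg.Agent.Lib.Helper3.Fus

namespace Coded

variable {G : Type*} [Group G] {L : List ℕ} {z : ℕ} (C : Coded G L z)

/-- a subgroup containing the elements with the generator codes contains all elements with codes
among the products -/
theorem mem_of_prods (K : Subgroup G) : ∀ us : List ℕ, (∀ u ∈ us, ∃ g : G, C.c g = u) →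
    (∀ u ∈ us, ∀ g, C.c g = u → g ∈ K) → ∀ g, C.c g ∈ prods us → g ∈ K
  | [], _, _, g, hg => by
    simp only [prods, List.mem_singleton] at hg
    rw [C.eq_one_of_code hg]; exact K.one_mem
  | u :: us, hex, h, g, hg => by
    have hex' : ∀ v ∈ us, ∃ g : G, C.c g = v := fun v hv => hex v (List.mem_cons_of_mem _ hv)
    have ih := mem_of_prods K us hex' (fun v hv => h v (List.mem_cons_of_mem _ hv))
    simp only [prods, List.mem_append, List.mem_map] at hg
    rcases hg with hg | ⟨m, hm, hmg⟩
    · exact ih g hg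
    · obtain ⟨g', rfl⟩ := C.exists_of_mem_prods us hex' m hm
      obtain ⟨hu, hhu⟩ := hex u List.mem_cons_self
      have : g = hu * g' := by
        apply C.c_inj
        rw [C.c_mul, hhu, hmg]
      rw [this]
      exact K.mul_mem (h u List.mem_cons_self hu hhu) (ih g' hm)

include C in
theorem normal_of_check (ups : List (ℕ × ℕ)) (hL : prods (ups.map Prod.fst) = L)
    (hus : ∀ p ∈ ups, p.1 ∈ L ∧ p.2 ∈ L)
    (E : Subgroup G) (EL : List ℕ) (hE : ∀ g, g ∈ E ↔ C.c g ∈ EL)
    (hchk : ∀ p ∈ ups, compN p.1 p.2 = idN ∧ ∀ n ∈ EL, compN (compN p.1 n) p.2 ∈ EL) :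
    E.Normal := by
  have : Finite G := C.finite
  rw [← Subgroup.normalizer_eq_top_iff, eq_top_iff]
  intro g _
  apply C.mem_of_prods (Subgroup.normalizer (E : Set G)) (ups.map Prod.fst) (fun u hu => by
    rw [List.mem_map] at hu
    obtain ⟨p, hp, rfl⟩ := hu
    exact C.c_surj _ (hus p hp).1)
  · intro u hu g hg
    rw [List.mem_map] at hu
    obtain ⟨p, hp, rfl⟩ := hu
    obtain ⟨hinv, hconj⟩ := hchk p hp
    obtain ⟨g', hg'⟩ := C.c_surj _ (hus p hp).2
    have hgg : g' = g⁻¹ := by
      apply eq_inv_of_mul_eq_one_right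
      apply C.c_inj
      rw [C.c_mul, C.c_one, hg, hg', hinv]
    apply Subgroup.mem_normalizer_fintype
    intro n hn
    have hn' : n ∈ E := hn
    show g * n * g⁻¹ ∈ E
    rw [← hgg, hE, C.c_mul, C.c_mul, hg, hg']
    exact hconj _ ((hE n).mp hn')
  · rw [hL]; exact C.c_mem g

end Coded

end Cfsg.Agent.Lib.Helper3.Syl24
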