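import Mathlib
import Cfsg.Agent.Lib.Helper3.Syl24.Basic

set_option autoImplicit false

/-! The quotient of a coded 2-group by its centre. -/

namespace Cfsg.Agent.Lib.Helper3.Syl24

open Cfsg.Agent.Lib.Helper3.Golay Cfsg.Agent.Lib.Helper3.Fus

/-- the order of the preimage of a subgroup of a quotient -/
theorem card_comap_mk {G : Type*} [Group G] [Finite G] (N : Subgroup G) [N.Normal]
    (A : Subgroup (G ⧸ N)) :
    Nat.card (A.comap (QuotientGroup.mk' N)) = Nat.card A * Nat.card N := by
  have h1 := (A.comap (QuotientGroup.mk' N)).card_mul_index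
  have h2 := A.card_mul_index
  have h3 : (A.comap (QuotientGroup.mk' N)).index = A.index :=
    Subgroup.index_comap_of_surjective A (QuotientGroup.mk'_surjective N)
  have h4 := Subgroup.card_eq_card_quotient_mul_card_subgroup N
  have hpos : 0 < A.index := Nat.pos_of_ne_zero Subgroup.index_ne_zero_of_finite
  rw [h3] at h1
  have : Nat.card (A.comap (QuotientGroup.mk' N)) * A.index =
      Nat.card A * Nat.card N * A.index := by
    rw [h1, h4, ← h2]; ring
  exact Nat.eq_of_mul_eq_mul_right hpos this

namespace Coded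

variable {G : Type*} [Group G] {L : List ℕ} {z : ℕ} (C : Coded G L z)

/-- the nontrivial central element -/
theorem exists_z (hp : IsPGroup 2 G) [Nontrivial G] :
    ∃ z₀ : G, z₀ ∈ Subgroup.center G ∧ C.c z₀ = z ∧ z₀ ≠ 1 := by
  have : Finite G := C.finite
  have : Fact (Nat.Prime 2) := ⟨Nat.prime_two⟩
  have hnt := hp.center_nontrivial
  obtain ⟨⟨x, hx⟩, hx1⟩ := exists_ne (1 : Subgroup.center G)
  have hx1' : x ≠ 1 := fun h => hx1 (Subtype.ext h)
  refine ⟨x, hx, ?_, hx1'⟩
  rcases C.c_center x (fun h => (Subgroup.mem_center_iff.mp hx h).symm) with h | h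
  · exact absurd (C.eq_one_of_code h) hx1'
  · exact h

theorem mem_center_iff {z₀ : G} (hz : z₀ ∈ Subgroup.center G) (hzc : C.c z₀ = z) (g : G) :
    g ∈ Subgroup.center G ↔ g = 1 ∨ g = z₀ := by
  constructor
  · intro hg
    rcases C.c_center g (fun h => (Subgroup.mem_center_iff.mp hg h).symm) with h | h
    · exact Or.inl (C.eq_one_of_code h)
    · exact Or.inr (C.c_inj (h.trans hzc.symm))
  · rintro (rfl | rfl)
    · exact Subgroup.one_mem _
    · exact hz

theorem card_center {z₀ : G} (hz : z₀ ∈ Subgroup.center G) (hzc : C.c z₀ = z) (hz1 : z₀ ≠ 1) :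
    Nat.card (Subgroup.center G) = 2 := by
  have h := C.card_eq (Subgroup.center G : Set G) [idN, z] (by
      have : z ≠ idN := by
        intro h
        exact hz1 (C.eq_one_of_code (hzc.trans h))
      simp [this.symm]) (by
      intro g hg
      rcases (C.mem_center_iff hz hzc g).mp hg with rfl | rfl
      · simp [C.c_one]
      · simp [hzc]) (by
      intro n hn
      simp only [List.mem_cons, List.mem_nil_iff, or_false] at hn
      rcases hn with rfl | rfl
      · exact ⟨1, Subgroup.one_mem _, C.c_one⟩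
      · exact ⟨z₀, hz, hzc⟩)
  simpa using h

/-- equality in the quotient by the centre -/
theorem mk_eq_iff {z₀ : G} (hz : z₀ ∈ Subgroup.center G) (hzc : C.c z₀ = z) (x y : G) :
    (QuotientGroup.mk' (Subgroup.center G) x) = QuotientGroup.mk' (Subgroup.center G) y ↔
      y = x ∨ y = z₀ * x := by
  rw [QuotientGroup.mk'_apply, QuotientGroup.mk'_apply, QuotientGroup.eq,
    C.mem_center_iff hz hzc]
  constructor
  · rintro (h | h)
    · left
      have : y = x * (x⁻¹ * y) := by group
      rw [this, h, mul_one]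
    · right
      have : y = x * (x⁻¹ * y) := by group
      rw [this, h]
      exact (Subgroup.mem_center_iff.mp hz x)
  · rintro (rfl | rfl)
    · left; group
    · right
      rw [← Subgroup.mem_center_iff.mp hz x]
      group

theorem commute_iff {z₀ : G} (hz : z₀ ∈ Subgroup.center G) (hzc : C.c z₀ = z) (x y : G) :
    Commute (QuotientGroup.mk' (Subgroup.center G) x) (QuotientGroup.mk' (Subgroup.center G) y) ↔
      commZ z (C.c x) (C.c y) = true := by
  rw [commZ_iff]
  unfold Commute SemiconjBy
  rw [← map_mul, ← map_mul, eq_comm, C.mk_eq_iff hz hzc]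
  constructor
  · rintro (h | h)
    · left
      rw [← C.c_mul, ← C.c_mul, h]
    · right
      rw [← C.c_mul, ← C.c_mul, h, C.c_mul, hzc]
  · rintro (h | h)
    · left
      apply C.c_inj
      rw [C.c_mul, C.c_mul, h]
    · right
      apply C.c_inj
      rw [C.c_mul, C.c_mul, C.c_mul, hzc, h]

theorem sq_iff {z₀ : G} (hz : z₀ ∈ Subgroup.center G) (hzc : C.c z₀ = z) (x : G) :
    (QuotientGroup.mk' (Subgroup.center G) x) ^ 2 = 1 ↔ sqZ z (C.c x) = true := by
  rw [sqZ_iff, ← map_pow, ← map_one (QuotientGroup.mk' (Subgroup.center G)), eq_comm,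
    C.mk_eq_iff hz hzc, mul_one, pow_two]
  constructor
  · rintro (h | h)
    · left; rw [← C.c_mul, h, C.c_one]
    · right; rw [← C.c_mul, h, hzc]
  · rintro (h | h)
    · left; apply C.c_inj; rw [C.c_mul, h, C.c_one]
    · right; apply C.c_inj; rw [C.c_mul, h, hzc]

end Coded

end Cfsg.Agent.Lib.Helper3.Syl24
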