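import Mathlib
import Cfsg.Agent.Lib.Helper3.Syl24.Quot

set_option autoImplicit false

/-! Uniqueness of the abelian subgroup of order 64 in the quotient by the centre, from list
checks. -/

namespace Cfsg.Agent.Lib.Helper3.Syl24

open Cfsg.Agent.Lib.Helper3.Golay Cfsg.Agent.Lib.Helper3.Fus

namespace Coded

variable {G : Type*} [Group G] {L : List ℕ} {z : ℕ} (C : Coded G L z)

local notation "π" => QuotientGroup.mk' (Subgroup.center G)

include C in
theorem part3 (hp : IsPGroup 2 G) [Nontrivial G] (hG : Nat.card G = 1024)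
    (es rs : List ℕ) (hcover : ∀ n ∈ L, n ∈ prods (rs ++ es)) (hsub : ∀ v ∈ rs ++ es, v ∈ L)
    (E : Subgroup G) (hE : ∀ g, g ∈ E ↔ C.c g ∈ prods es) (hEn : E.Normal) (hzE : z ∈ prods es)
    (hEcard : Nat.card E = 128)
    (hcomm : ∀ a ∈ prods es, ∀ b ∈ prods es, commZ z a b = true)
    (hA : ∀ ρ ∈ prods rs, ρ ≠ idN → ((prods es).filter (fun m => commZ z m ρ)).length ≤ 32)
    (hB : ∀ ρ ∈ prods rs, ∀ ρ' ∈ prods rs, ρ ≠ idN → ρ' ≠ idN → ρ ≠ ρ' →
      ((prods es).filter (fun m => commZ z m ρ && commZ z m ρ')).length ≤ 16)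
    (r1 r2 : ℕ) (hr1 : r1 ∈ L) (hr2 : r2 ∈ L)
    (hfin : ∀ e ∈ prods es, compN r1 r2 ≠ compN (compN r2 r1) e)
    (T : Subgroup G) (hT : Nat.card T = 128)
    (hTc : ∀ x ∈ T, ∀ y ∈ T, Commute (π x) (π y)) : T = E := by
  have : Finite G := C.finite
  obtain ⟨z₀, hz, hzc, hz1⟩ := C.exists_z hp
  have hZE : Subgroup.center G ≤ E := by
    intro g hg
    rcases (C.mem_center_iff hz hzc g).mp hg with rfl | rfl
    · exact E.one_mem
    · rw [hE, hzc]; exact hzE
  suffices hle : T ≤ E from Subgroup.eq_of_le_of_card_ge hle (by rw [hT, hEcard])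
  by_contra hnle
  obtain ⟨x, hxT, hxE⟩ := SetLike.not_le_iff_exists.mp hnle
  -- decomposition of the elements of `T` outside `E`
  have key : ∀ x ∈ T, x ∉ E → ∃ w : G, C.c w ∈ prods rs ∧ C.c w ≠ idN ∧ w⁻¹ * x ∈ E ∧
      ∀ n ∈ T ⊓ E, commZ z (C.c n) (C.c w) = true := by
    intro x hxT hxE
    obtain ⟨w, e, hw, he, rfl⟩ := C.decomp rs es (fun v hv => C.c_surj v (hsub v hv)) x
      (hcover _ (C.c_mem x))
    have heE : e ∈ E := (hE e).mpr he
    refine ⟨w, hw, ?_, by simpa using heE, ?_⟩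
    · intro h
      rw [C.eq_one_of_code h, one_mul] at hxE
      exact hxE heE
    · intro n hn
      rw [← C.commute_iff hz hzc]
      have h1 : Commute (π n) (π (w * e)) := hTc n hn.1 _ hxT
      have h2 : Commute (π n) (π e) :=
        (C.commute_iff hz hzc n e).mpr (hcomm _ ((hE n).mp hn.2) _ he)
      rw [map_mul] at h1
      have := h1.mul_right h2.inv_right
      simpa using this
  -- index bookkeeping
  have hrel : E.relIndex T * Nat.card (T ⊓ E : Subgroup G) = 128 := by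
    have h1 := (E.subgroupOf T).card_mul_index
    have h2 : Nat.card (E.subgroupOf T) = Nat.card (T ⊓ E : Subgroup G) := by
      rw [← Subgroup.inf_subgroupOf_left]
      exact Nat.card_congr (Subgroup.subgroupOfEquivOfLe inf_le_left).toEquiv
    rw [h2, hT, mul_comm] at h1
    exact h1
  have hEidx : E.index = 8 := by
    have := E.card_mul_index
    rw [hEcard, hG] at this
    omega
  -- first bound
  obtain ⟨w, hw, hw1, hwx, hcw⟩ := key x hxT hxE
  have hc1 : Nat.card (T ⊓ E : Subgroup G) ≤ 32 := by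
    refine (C.card_le ((T ⊓ E : Subgroup G) : Set G) _ (fun n hn => ?_)).trans (hA _ hw hw1)
    rw [List.mem_filter]
    exact ⟨(hE n).mp hn.2, hcw n hn⟩
  have hnd : ¬ E.relIndex T ∣ 2 := by
    intro hd
    have := Nat.le_of_dvd (by norm_num) hd
    nlinarith
  rw [Subgroup.relIndex_dvd_two_iff] at hnd
  push Not at hnd
  obtain ⟨y, hyT, hyx, hyE⟩ := hnd x⁻¹ (T.inv_mem hxT)
  obtain ⟨w', hw', hw1', hwy, hcw'⟩ := key y hyT hyE
  have hne : C.c w ≠ C.c w' := by
    intro h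
    have hww : w = w' := C.c_inj h
    apply hyx
    have : y * x⁻¹ = w * ((w⁻¹ * y) * (w⁻¹ * x)⁻¹) * w⁻¹ := by group
    rw [this]
    apply hEn.conj_mem
    apply E.mul_mem _ (E.inv_mem hwx)
    rw [hww]; exact hwy
  have hc2 : Nat.card (T ⊓ E : Subgroup G) ≤ 16 := by
    refine (C.card_le ((T ⊓ E : Subgroup G) : Set G) _ (fun n hn => ?_)).trans
      (hB _ hw _ hw' hw1 hw1' hne)
    rw [List.mem_filter, Bool.and_eq_true]
    exact ⟨(hE n).mp hn.2, hcw n hn, hcw' n hn⟩
  -- the product is everything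
  have htop : T ⊔ E = ⊤ := by
    rw [← Subgroup.index_eq_one]
    have h1 : E.relIndex (T ⊔ E) = E.relIndex T := Subgroup.relIndex_sup_right T E
    have h2 := Subgroup.relIndex_mul_index (le_sup_right : E ≤ T ⊔ E)
    rw [h1, hEidx] at h2
    have h3 : 8 ≤ E.relIndex T := by
      by_contra hlt
      rw [not_le] at hlt
      nlinarith
    have h4 : (T ⊔ E).index ≠ 0 := Subgroup.index_ne_zero_of_finite
    nlinarith
  -- two elements whose cosets do not commute
  obtain ⟨g1, hg1⟩ := C.c_surj r1 hr1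
  obtain ⟨g2, hg2⟩ := C.c_surj r2 hr2
  have hmem1 : g1 ∈ T ⊔ E := by rw [htop]; exact Subgroup.mem_top _
  have hmem2 : g2 ∈ T ⊔ E := by rw [htop]; exact Subgroup.mem_top _
  rw [Subgroup.mem_sup_of_normal_right] at hmem1 hmem2
  obtain ⟨t1, ht1, e1, he1, rfl⟩ := hmem1
  obtain ⟨t2, ht2, e2, he2, rfl⟩ := hmem2
  have hψ : ∀ (t e : G), e ∈ E → (QuotientGroup.mk' E (t * e)) = QuotientGroup.mk' E t := by
    intro t e he
    rw [QuotientGroup.mk'_apply, QuotientGroup.mk'_apply, QuotientGroup.eq]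
    simpa using he
  have hcomm12 : (QuotientGroup.mk' E (t1 * t2)) = QuotientGroup.mk' E (t2 * t1) := by
    have h1 := hTc t1 ht1 t2 ht2
    unfold Commute SemiconjBy at h1
    rw [← map_mul, ← map_mul, eq_comm, QuotientGroup.mk'_apply, QuotientGroup.mk'_apply,
      QuotientGroup.eq] at h1
    rw [eq_comm, QuotientGroup.mk'_apply, QuotientGroup.mk'_apply, QuotientGroup.eq]
    exact hZE h1
  have hfinal : (QuotientGroup.mk' E ((t2 * e2) * (t1 * e1))) =
      QuotientGroup.mk' E ((t1 * e1) * (t2 * e2)) := by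
    rw [map_mul _ (t2 * e2) (t1 * e1), map_mul _ (t1 * e1) (t2 * e2), hψ t1 e1 he1, hψ t2 e2 he2,
      ← map_mul, ← map_mul, hcomm12]
  rw [QuotientGroup.mk'_apply, QuotientGroup.mk'_apply, QuotientGroup.eq] at hfinal
  apply hfin _ ((hE _).mp hfinal)
  rw [← hg1, ← hg2, ← C.c_mul, ← C.c_mul, ← C.c_mul]
  congr 1
  group

end Coded

end Cfsg.Agent.Lib.Helper3.Syl24
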