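import Mathlib
import Cfsg.Prelude.Def_Transfer
import Cfsg.Agent.Lib.Helper3.Syl24.Quot
import Cfsg.Agent.Lib.Helper4.SupersolvableOrder

set_option autoImplicit false

/-! The three statements about the quotient of a coded 2-group by its centre, from list checks. -/

namespace Cfsg.Agent.Lib.Helper3.Syl24

open Cfsg.Agent.Lib.Helper3.Golay Cfsg.Agent.Lib.Helper3.Fus

/-- maximal subgroups of a finite 2-group have index 2 -/
theorem index_two_of_isCoatom {Q : Type*} [Group Q] [Finite Q] (hp : IsPGroup 2 Q)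
    (M : Subgroup Q) (hM : IsCoatom M) : M.index = 2 := by
  have : Fact (Nat.Prime 2) := ⟨Nat.prime_two⟩
  have hss := Cfsg.Agent.Lib.Helper4.isSupersolvable_of_isPGroup 2 hp
  have hpr := Cfsg.Agent.Lib.Helper4.prime_index_of_isSupersolvable hss M hM
  obtain ⟨k, hk⟩ := hp.exists_card_eq
  have hdvd : M.index ∣ 2 ^ k := by
    rw [← hk]; exact Subgroup.index_dvd_card M
  have := (Nat.Prime.dvd_of_dvd_pow hpr hdvd)
  exact (Nat.prime_dvd_prime_iff_eq hpr Nat.prime_two).mp this

namespace Coded

variable {G : Type*} [Group G] {L : List ℕ} {z : ℕ} (C : Coded G L z)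

local notation "π" => QuotientGroup.mk' (Subgroup.center G)

/-! ### the elementary abelian subgroup -/

include C in
theorem part2 (hp : IsPGroup 2 G) [Nontrivial G]
    (E : Subgroup G) (EL : List ℕ) (hE : ∀ g, g ∈ E ↔ C.c g ∈ EL) (hzE : z ∈ EL)
    (hEcard : Nat.card E = 128)
    (hcomm : ∀ a ∈ EL, ∀ b ∈ EL, commZ z a b = true) (hsq : ∀ a ∈ EL, sqZ z a = true) :
    ∃ A : Subgroup (G ⧸ Subgroup.center G), Cfsg.IsElementaryAbelian 2 A ∧ Nat.card A = 64 := by
  have : Finite G := C.finite
  obtain ⟨z₀, hz, hzc, hz1⟩ := C.exists_z hp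
  have hZE : Subgroup.center G ≤ E := by
    intro g hg
    rcases (C.mem_center_iff hz hzc g).mp hg with rfl | rfl
    · exact E.one_mem
    · rw [hE, hzc]; exact hzE
  refine ⟨E.map (QuotientGroup.mk' (Subgroup.center G)), ⟨⟨⟨?_⟩⟩, ?_⟩, ?_⟩
  · rintro ⟨_, x, hx, rfl⟩ ⟨_, y, hy, rfl⟩
    apply Subtype.ext
    exact (C.commute_iff hz hzc x y).mpr (hcomm _ ((hE x).mp hx) _ ((hE y).mp hy))
  · rintro _ ⟨x, hx, rfl⟩
    exact (C.sq_iff hz hzc x).mpr (hsq _ ((hE x).mp hx))
  · have h1 := card_comap_mk (Subgroup.center G) (E.map (QuotientGroup.mk' (Subgroup.center G)))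
    rw [Subgroup.comap_map_eq_self (by rw [QuotientGroup.ker_mk']; exact hZE), hEcard,
      C.card_center hz hzc hz1] at h1
    omega

/-! ### centres of maximal subgroups -/

include C in
theorem part1_case (hp : IsPGroup 2 G) [Nontrivial G] (M : Subgroup (G ⧸ Subgroup.center G))
    (t1 t2 : G) (ht1 : QuotientGroup.mk' (Subgroup.center G) t1 ∈ M)
    (ht2 : QuotientGroup.mk' (Subgroup.center G) t2 ∈ M)
    (hlen : (L.filter (fun n => commZ z n (C.c t1) && commZ z n (C.c t2))).length ≤ 16) :
    Nat.card (Subgroup.center M) ≤ 8 := by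
  have : Finite G := C.finite
  obtain ⟨z₀, hz, hzc, hz1⟩ := C.exists_z hp
  have h1 := card_comap_mk (Subgroup.center G) ((Subgroup.center M).map M.subtype)
  rw [C.card_center hz hzc hz1,
    Subgroup.card_map_of_injective (Subgroup.subtype_injective M)] at h1
  have h2 := C.card_le (((Subgroup.center M).map M.subtype).comap π : Set G)
    (L.filter (fun n => commZ z n (C.c t1) && commZ z n (C.c t2))) (by
      intro g hg
      obtain ⟨m, hm, hmg⟩ := hg
      rw [List.mem_filter, Bool.and_eq_true]
      refine ⟨C.c_mem g, ?_, ?_⟩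
      · rw [← C.commute_iff hz hzc]
        have := Subgroup.mem_center_iff.mp hm ⟨π t1, ht1⟩
        have h3 := congrArg Subtype.val this
        simp only [Subgroup.coe_mul] at h3
        show π g * π t1 = π t1 * π g
        rw [← show (M.subtype m) = π g from hmg]
        exact h3.symm
      · rw [← C.commute_iff hz hzc]
        have := Subgroup.mem_center_iff.mp hm ⟨π t2, ht2⟩
        have h3 := congrArg Subtype.val this
        simp only [Subgroup.coe_mul] at h3
        show π g * π t2 = π t2 * π g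
        rw [← show (M.subtype m) = π g from hmg]
        exact h3.symm)
  have h3 : Nat.card (((Subgroup.center M).map M.subtype).comap π) ≤ 16 := h2.trans hlen
  omega

end Coded

end Cfsg.Agent.Lib.Helper3.Syl24
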