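import Mathlib
import Cfsg.Prelude.Def_Transfer
import Cfsg.Agent.Lib.Helper3.Syl24.Data
import Cfsg.Agent.Lib.Helper3.Syl24.Parts
import Cfsg.Agent.Lib.Helper3.Syl24.Part3
import Cfsg.Agent.Lib.Helper3.Syl24.Norm

set_option autoImplicit false

/-! The Sylow 2-subgroup of M24 modulo its centre: centres of maximal subgroups, the elementary
abelian subgroup of order 64 and its uniqueness among abelian subgroups of that order. -/

namespace Cfsg.Agent.Lib.Helper3.Syl24

open Cfsg Cfsg.Agent.Lib.Helper3.Golay Cfsg.Agent.Lib.Helper3.Fus Cfsg.Agent.Lib.Helper3.FusM24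
open Cfsg.Agent.Lib.Helper3.Syl24.Data

/-- the coding of a group isomorphic to the listed Sylow subgroup -/
noncomputable def codedOf {G : Type*} [Group G] (e : G ≃* ↥D.S) : Coded G LL zN where
  c g := codeOf ((e g : ↥D.S) : Equiv.Perm GolayPt)
  c_one := by rw [map_one]; exact codeOf_one
  c_mul g h := by rw [map_mul, Subgroup.coe_mul, codeOf_mul]
  c_inj := codeOf_injective.comp (Subtype.val_injective.comp e.injective)
  c_mem g := D.mem_L (e g).2
  c_surj n hn := by
    obtain ⟨σ, hσ, rfl⟩ := D.of_mem_L hn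
    exact ⟨e.symm ⟨σ, hσ⟩, by simp⟩
  c_center g hg := by
    have h := D.center (e g).2 (fun τ hτ => by
      have h1 := hg (e.symm ⟨τ, hτ⟩)
      have h2 := congrArg (fun x => ((e x : ↥D.S) : Equiv.Perm GolayPt)) h1
      simpa using h2)
    rcases h with h | h
    · left
      rw [h]; exact codeOf_one
    · right; exact h

section

variable {G : Type*} [Group G] (C : Coded G LL zN)

include C in
theorem card_G : Nat.card G = 1024 := by
  rw [C.card_univ D.nodup]
  show D.L.length = 1024
  rw [← D.hL, prods_length]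
  rfl

include C in
theorem isPGroup_G : IsPGroup 2 G := by
  have : Fact (Nat.Prime 2) := ⟨Nat.prime_two⟩
  exact IsPGroup.of_card (n := 10) (by rw [card_G C]; norm_num)

include C in
theorem nontrivial_G : Nontrivial G := by
  have : Finite G := C.finite
  rw [← Finite.one_lt_card_iff_nontrivial, card_G C]
  norm_num

theorem prodsE : prods esN = ELl := prodsOK_sound chk_prodsE

/-- the subgroup `E` -/
def E : Subgroup G :=
  C.subOf ELl (memB_iff.mp chk_zE.2) (by
    intro a ha b hb
    have h := chk_closedE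
    rw [List.all_eq_true] at h
    have h' := h a ha
    rw [List.all_eq_true] at h'
    exact memB_iff.mp (h' b hb))

theorem mem_E (g : G) : g ∈ E C ↔ C.c g ∈ ELl := Iff.rfl

theorem card_E : Nat.card (E C) = 128 := by
  have h := C.card_eq ((E C : Subgroup G) : Set G) ELl (nodupB_sound chk_nodupE)
    (fun g hg => hg) (fun n hn => by
      have hnL : n ∈ LL := by
        have h1 : n ∈ prods (rsN ++ esN) := by
          have : ∀ (us vs : List ℕ) (m : ℕ), m ∈ prods vs → m ∈ prods (us ++ vs) := by
            intro us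
            induction us with
            | nil => intro vs m hm; simpa using hm
            | cons u us ih =>
              intro vs m hm
              rw [List.cons_append]
              simp only [prods, List.mem_append]
              exact Or.inl (ih vs m hm)
          apply this
          rw [prodsE]; exact hn
        rw [prodsOK_sound chk_prodsV] at h1
        have hv : ∀ v ∈ rsN ++ esN, ∃ g : G, C.c g = v := by
          intro v hv
          have h := chk_sub
          rw [List.all_eq_true] at h
          exact C.c_surj v (memB_iff.mp (h v hv))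
        obtain ⟨g, hg⟩ := C.exists_of_mem_prods (rsN ++ esN) hv n (by
          rw [prodsOK_sound chk_prodsV]; exact h1)
        rw [← hg]; exact C.c_mem g
      obtain ⟨g, hg⟩ := C.c_surj n hnL
      exact ⟨g, by show C.c g ∈ ELl; rw [hg]; exact hn, hg⟩)
  have h2 : Nat.card (E C) = Nat.card ((E C : Subgroup G) : Set G) := rfl
  rw [h2, h]; rfl

theorem normal_E : (E C).Normal := by
  apply C.normal_of_check upsN (by rw [chk_ups.1]; exact D.hL) _ (E C) ELl (mem_E C)
  · intro p hp
    have h := chk_norm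
    rw [List.all_eq_true] at h
    have h' := h p hp
    rw [Bool.and_eq_true, List.all_eq_true] at h'
    exact ⟨Nat.eq_of_beq_eq_true h'.1, fun n hn => memB_iff.mp (h'.2 n hn)⟩
  · intro p hp
    have h := chk_ups.2
    rw [List.all_eq_true] at h
    have h' := h p hp
    rw [Bool.and_eq_true] at h'
    exact ⟨memB_iff.mp h'.1, memB_iff.mp h'.2⟩

theorem commE : ∀ a ∈ ELl, ∀ b ∈ ELl, commZ zN a b = true := by
  intro a ha b hb
  have h := chk_commE
  rw [List.all_eq_true] at h
  have h' := h a ha
  rw [List.all_eq_true] at h'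
  exact h' b hb

theorem sqE : ∀ a ∈ ELl, sqZ zN a = true := by
  intro a ha
  have h := chk_sqE
  rw [List.all_eq_true] at h
  exact h a ha

include C in
theorem main_part2 :
    ∃ A : Subgroup (G ⧸ Subgroup.center G), Cfsg.IsElementaryAbelian 2 A ∧ Nat.card A = 64 := by
  have := nontrivial_G C
  exact C.part2 (isPGroup_G C) (E C) ELl (mem_E C) (memB_iff.mp chk_zE.1) (card_E C) commE sqE

theorem main_part3 (T : Subgroup G) (hT : Nat.card T = 128)
    (hTc : ∀ x ∈ T, ∀ y ∈ T, Commute (QuotientGroup.mk' (Subgroup.center G) x)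
      (QuotientGroup.mk' (Subgroup.center G) y)) : T = E C := by
  have := nontrivial_G C
  have hsub : ∀ v ∈ rsN ++ esN, v ∈ LL := by
    intro v hv
    have h := chk_sub
    rw [List.all_eq_true] at h
    exact memB_iff.mp (h v hv)
  apply C.part3 (isPGroup_G C) (card_G C) esN rsN _ hsub (E C) (by rw [prodsE]; exact mem_E C)
    (normal_E C) (by rw [prodsE]; exact memB_iff.mp chk_zE.1) (card_E C)
    (by rw [prodsE]; exact commE) _ _ r1N r2N (memB_iff.mp chk_gs.2.2.2.2.1)
    (memB_iff.mp chk_gs.2.2.2.2.2) _ T hT hTc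
  · intro n hn
    rw [prodsOK_sound chk_prodsV]
    have h := chk_cover
    rw [List.all_eq_true] at h
    exact memB_iff.mp (h n hn)
  · rw [prodsE, prodsOK_sound chk_prodsR]
    intro ρ hρ hρ1
    have h := chk_A
    rw [List.all_eq_true] at h
    have h' := h ρ hρ
    rw [Bool.or_eq_true] at h'
    rcases h' with h' | h'
    · exact absurd (Nat.eq_of_beq_eq_true h') hρ1
    · exact Nat.le_of_ble_eq_true h'
  · rw [prodsE, prodsOK_sound chk_prodsR]
    intro ρ hρ ρ' hρ' hρ1 hρ1' hne
    have h := chk_B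
    rw [List.all_eq_true] at h
    have h' := h ρ hρ
    rw [List.all_eq_true] at h'
    have h'' := h' ρ' hρ'
    rw [Bool.or_eq_true, Bool.or_eq_true, Bool.or_eq_true] at h''
    rcases h'' with ((h'' | h'') | h'') | h''
    · exact absurd (Nat.eq_of_beq_eq_true h'') hρ1
    · exact absurd (Nat.eq_of_beq_eq_true h'') hρ1'
    · exact absurd (Nat.eq_of_beq_eq_true h'') hne
    · exact Nat.le_of_ble_eq_true h''
  · rw [prodsE]
    intro e he heq
    have h := chk_fin
    rw [List.all_eq_true] at h
    have h' := h e he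
    rw [heq, Nat.beq_refl] at h'
    exact Bool.noConfusion h'

include C in
theorem main_part1 (M : Subgroup (G ⧸ Subgroup.center G)) (hM : IsCoatom M) :
    Nat.card (Subgroup.center M) ≤ 8 := by
  have := nontrivial_G C
  have hfin : Finite G := C.finite
  have hp := isPGroup_G C
  have hpQ : IsPGroup 2 (G ⧸ Subgroup.center G) := hp.to_quotient _
  have hidx := index_two_of_isCoatom hpQ M hM
  have hHidx : (M.comap (QuotientGroup.mk' (Subgroup.center G))).index = 2 := by
    rw [Subgroup.index_comap_of_surjective _ (QuotientGroup.mk'_surjective _)]; exact hidx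
  obtain ⟨g1, hg1⟩ := C.c_surj g1N (memB_iff.mp chk_gs.1)
  obtain ⟨g2, hg2⟩ := C.c_surj g2N (memB_iff.mp chk_gs.2.1)
  obtain ⟨g3, hg3⟩ := C.c_surj g3N (memB_iff.mp chk_gs.2.2.1)
  obtain ⟨g4, hg4⟩ := C.c_surj g4N (memB_iff.mp chk_gs.2.2.2.1)
  by_cases h1 : g1 ∈ M.comap (QuotientGroup.mk' (Subgroup.center G)) <;>
  by_cases h2 : g2 ∈ M.comap (QuotientGroup.mk' (Subgroup.center G)) <;>
  by_cases h3 : g3 ∈ M.comap (QuotientGroup.mk' (Subgroup.center G)) <;>
  by_cases h4 : g4 ∈ M.comap (QuotientGroup.mk' (Subgroup.center G))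
  · refine C.part1_case hp M (g1) (g2) h1 h2 ?_
    simp only [C.c_mul, hg1, hg2, hg3, hg4]
    exact goodPair_iff chk_P0
  · refine C.part1_case hp M (g1) (g2) h1 h2 ?_
    simp only [C.c_mul, hg1, hg2, hg3, hg4]
    exact goodPair_iff chk_P1
  · refine C.part1_case hp M (g1) (g2) h1 h2 ?_
    simp only [C.c_mul, hg1, hg2, hg3, hg4]
    exact goodPair_iff chk_P2
  · refine C.part1_case hp M (g1) (g2) h1 h2 ?_
    simp only [C.c_mul, hg1, hg2, hg3, hg4]
    exact goodPair_iff chk_P3
  · refine C.part1_case hp M (g1) (g4) h1 h4 ?_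
    simp only [C.c_mul, hg1, hg2, hg3, hg4]
    exact goodPair_iff chk_P4
  · refine C.part1_case hp M (g1) (g2 * g4) h1 ((Subgroup.mul_mem_iff_of_index_two hHidx).mpr (iff_of_false h2 h4)) ?_
    simp only [C.c_mul, hg1, hg2, hg3, hg4]
    exact goodPair_iff chk_P5
  · refine C.part1_case hp M (g1) (g4) h1 h4 ?_
    simp only [C.c_mul, hg1, hg2, hg3, hg4]
    exact goodPair_iff chk_P6
  · refine C.part1_case hp M (g1) (g2 * g3) h1 ((Subgroup.mul_mem_iff_of_index_two hHidx).mpr (iff_of_false h2 h3)) ?_
    simp only [C.c_mul, hg1, hg2, hg3, hg4]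
    exact goodPair_iff chk_P7
  · refine C.part1_case hp M (g2) (g3) h2 h3 ?_
    simp only [C.c_mul, hg1, hg2, hg3, hg4]
    exact goodPair_iff chk_P8
  · refine C.part1_case hp M (g2) (g3) h2 h3 ?_
    simp only [C.c_mul, hg1, hg2, hg3, hg4]
    exact goodPair_iff chk_P9
  · refine C.part1_case hp M (g2) (g4) h2 h4 ?_
    simp only [C.c_mul, hg1, hg2, hg3, hg4]
    exact goodPair_iff chk_P10
  · refine C.part1_case hp M (g2) (g4 * g1) h2 ((Subgroup.mul_mem_iff_of_index_two hHidx).mpr (iff_of_false h4 h1)) ?_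
    simp only [C.c_mul, hg1, hg2, hg3, hg4]
    exact goodPair_iff chk_P11
  · refine C.part1_case hp M (g3) (g4) h3 h4 ?_
    simp only [C.c_mul, hg1, hg2, hg3, hg4]
    exact goodPair_iff chk_P12
  · refine C.part1_case hp M (g3) (g1 * g2) h3 ((Subgroup.mul_mem_iff_of_index_two hHidx).mpr (iff_of_false h1 h2)) ?_
    simp only [C.c_mul, hg1, hg2, hg3, hg4]
    exact goodPair_iff chk_P13
  · refine C.part1_case hp M (g4) (g1 * g2) h4 ((Subgroup.mul_mem_iff_of_index_two hHidx).mpr (iff_of_false h1 h2)) ?_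
    simp only [C.c_mul, hg1, hg2, hg3, hg4]
    exact goodPair_iff chk_P14
  · refine C.part1_case hp M (g1 * g2) (g1 * g3) ((Subgroup.mul_mem_iff_of_index_two hHidx).mpr (iff_of_false h1 h2)) ((Subgroup.mul_mem_iff_of_index_two hHidx).mpr (iff_of_false h1 h3)) ?_
    simp only [C.c_mul, hg1, hg2, hg3, hg4]
    exact goodPair_iff chk_P15

include C in
theorem main :
    (∀ M : Subgroup (G ⧸ Subgroup.center G), IsCoatom M → Nat.card (Subgroup.center M) ≤ 8) ∧
    (∃ A : Subgroup (G ⧸ Subgroup.center G), Cfsg.IsElementaryAbelian 2 A ∧ Nat.card A = 64) ∧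
    ∀ A B : Subgroup (G ⧸ Subgroup.center G), IsMulCommutative A → Nat.card A = 64 →
      IsMulCommutative B → Nat.card B = 64 → A = B := by
  have hfin : Finite G := C.finite
  have := nontrivial_G C
  refine ⟨main_part1 C, main_part2 C, ?_⟩
  obtain ⟨z₀, hz, hzc, hz1⟩ := C.exists_z (isPGroup_G C)
  have key : ∀ A : Subgroup (G ⧸ Subgroup.center G), IsMulCommutative A → Nat.card A = 64 →
      A.comap (QuotientGroup.mk' (Subgroup.center G)) = E C := by
    intro A hA hA64
    apply main_part3 C
    · rw [card_comap_mk, hA64, C.card_center hz hzc hz1]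
    · intro x hx y hy
      have := hA.is_comm.comm (⟨_, hx⟩ : A) ⟨_, hy⟩
      exact congrArg Subtype.val this
  intro A B hA hA64 hB hB64
  apply Subgroup.comap_injective (QuotientGroup.mk'_surjective (Subgroup.center G))
  rw [key A hA hA64, key B hB hB64]

end

end Cfsg.Agent.Lib.Helper3.Syl24
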